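/-
The functions evaluated in the checks for the Sylow 2-subgroup of Fi23.
-/
import Cfsg.Agent.Lib.CosetEnum.PointClass
import Cfsg.Agent.Lib.CosetEnum.SpanBound
import Cfsg.Agent.Lib.CosetEnum.Fi31671.Data
import Cfsg.Agent.Lib.CosetEnum.Fi23Class.Data
import Cfsg.Agent.Lib.CosetEnum.Fi23Aut.Data
import Cfsg.Agent.Lib.CosetEnum.Fi23Syl.Data

set_option autoImplicit false
set_option maxRecDepth 1000000

namespace CfsgLib.CosetEnum.Fi23Syl

/-- The image of a point under a product of transpositions given by words. -/
noncomputable def act (l : List (List ℕ)) (d : ℕ) : ℕ :=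
  List.rec (motive := fun _ => ℕ) d
    (fun v _ acc => force acc fun r => conjMap Fi31671.table 10 Fi23Class.zf v r) l

/-- The bit `i` of a mask. -/
noncomputable def bitB (m i : ℕ) : Bool := Nat.beq (fld m i 1) 1

/-- The words of the basis transpositions named by a mask, among the first `n`. -/
noncomputable def ebitsN : ℕ → ℕ → List (List ℕ)
  | 0, _ => []
  | n + 1, m => ebitsN n m ++ if bitB m n then [bwords.getD (bidx.getD n 0) []] else []

/-- The permutation of the base of an element of the group of order 128. -/
noncomputable def pm (a j : ℕ) : ℕ := fld (permT.get a) (Nat.mul 5 j) 5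

/-- The product in the group of order 128. -/
noncomputable def mul7 (a b : ℕ) : ℕ := fld (mulT.get a) (Nat.mul 8 b) 8

/-- The image of a mask, among the first `n` basis members. -/
noncomputable def imgN (c : ℕ) : ℕ → ℕ → ℕ
  | 0, _ => 0
  | n + 1, m => Nat.xor (imgN c n m) (Bool.rec 0 (fld c (Nat.mul 11 n) 11) (bitB m n))

/-- The mask is fixed by the element. -/
noncomputable def fixd (a m : ℕ) : Bool := force (colsT.get a) fun c => Nat.beq (imgN c 11 m) m

/-- The images of the controlled points agree. -/
noncomputable def sameAt (l r : List (List ℕ)) : Bool :=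
  Fi23Aut.genPts.all fun d => Nat.beq (act l d) (act r d)

/-- The lift of the `k`th generator. -/
noncomputable def gw (k : ℕ) : List (List ℕ) := gws.getD k []

/-- The check of one relation. -/
noncomputable def okRel (i j : ℕ) : Bool :=
  let e := (relData.getD i []).getD (j - i) (2048, [])
  Nat.blt e.1 2048 && e.2.all (fun k => Nat.blt i k && Nat.blt k 7) &&
    sameAt (if Nat.beq i j then gw i ++ gw i else gw i ++ gw j ++ (gw i).reverse)
      (ebitsN 11 e.1 ++ (e.2.map gw).flatten)

end CfsgLib.CosetEnum.Fi23Syl
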