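/-
Checks for the Sylow 2-subgroup of Fi23.
-/
import Cfsg.Agent.Lib.CosetEnum.Fi23Syl.Fun

set_option autoImplicit false
set_option maxRecDepth 1000000

namespace CfsgLib.CosetEnum.Fi23Syl

/-- The words and points are sound, and the members of the base commute. -/
noncomputable def okBase : Bool :=
  allN 23 fun j => force j fun j => force (bpts.getD j 0) fun q => Nat.blt q 31671 &&
    (bwords.getD j []).all (fun x => Nat.blt x 10) &&
    Nat.beq (runT Fi31671.table 10 (bwords.getD j []).reverse 0) q &&
    bwords.all (fun v => Nat.beq (conjMap Fi31671.table 10 Fi23Class.zf v q) q) &&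
    Nat.blt (vecs.getD j 0) 2048 &&
    sameAt [bwords.getD j []] (ebitsN 11 (vecs.getD j 0))

theorem base_ok : okBase = true := by decide +kernel

theorem base_len : bwords.length = 23 ∧ bpts.length = 23 ∧ bpts.Nodup ∧ (∀ i, i < 11 → bidx.getD i 0 < 23) := by
  decide +kernel

theorem inj_ok : allN 2048 (fun m => Nat.beq m 0 || !(sameAt (ebitsN 11 m) [])) = true := by decide +kernel

/-- The lifts permute the base as stated. -/
noncomputable def okLifts : Bool :=
  allN 7 fun i => (gw i).all (fun v => v.all fun x => Nat.blt x 10) &&
    allN 23 fun j => Nat.beq (act (gw i) (bpts.getD j 0)) (bpts.getD (pm (2 ^ i) j) 0)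

theorem lifts_ok : okLifts = true := by decide +kernel

theorem rels_ok : allN 7 (fun i => allN 7 fun j => Nat.blt j i || okRel i j) = true := by decide +kernel

end CfsgLib.CosetEnum.Fi23Syl
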