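/-
Checks for the Sylow 2-subgroup of Fi23.
-/
import Cfsg.Agent.Lib.CosetEnum.Fi23Syl.Fun

set_option autoImplicit false
set_option maxRecDepth 1000000

namespace CfsgLib.CosetEnum.Fi23Syl

/-- The tables of the group of order 128. -/
noncomputable def okGroup : Bool :=
  allN 128 fun a => force a fun a =>
    allN 23 (fun j => Nat.blt (pm a j) 23) &&
    Nat.beq (mul7 a 0) a &&
    (Nat.beq a 0 || (List.range 7).any fun i => Nat.ble (2 ^ i) a && Nat.beq (mul7 (2 ^ i) (a - 2 ^ i)) a) &&
    (Nat.beq a 0 || !(Nat.beq (mul7 a a) 0) || SpanBound.memB a invs) &&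
    allN 11 (fun i => Nat.beq (fld (colsT.get a) (Nat.mul 11 i) 11) (vecs.getD (pm a (bidx.getD i 0)) 0)) &&
    allN 128 (fun b => Nat.beq a b || !(allN 23 fun j => Nat.beq (pm a j) (pm b j)))

theorem group_ok : okGroup = true := by decide +kernel

theorem zero_ok : allN 23 (fun j => Nat.beq (pm 0 j) j) = true := by decide +kernel

/-- The products compose the permutations. -/
noncomputable def okMul : Bool :=
  allN 128 fun a => force a fun a => allN 128 fun b => force b fun b => force (mul7 a b) fun c =>
    Nat.blt c 128 && allN 23 fun j => Nat.beq (pm c j) (pm a (pm b j))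

theorem mul_ok : okMul = true := by decide +kernel

end CfsgLib.CosetEnum.Fi23Syl
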