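/-
Checks for the Sylow 2-subgroup of Fi23.
-/
import Cfsg.Agent.Lib.CosetEnum.Fi23Syl.Fun

set_option autoImplicit false
set_option maxRecDepth 1000000

namespace CfsgLib.CosetEnum.Fi23Syl

/-- The bound over all elementary abelian subgroups. -/
noncomputable def okSpan : Bool :=
  SpanBound.spanOK mul7 fixd 2048 5 [0] (List.range 2048) invs

theorem span_ok : okSpan = true := by decide +kernel

end CfsgLib.CosetEnum.Fi23Syl
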