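/-
The checks for the Sylow 2-subgroup of Fi23.
-/
import Cfsg.Agent.Lib.CosetEnum.Fi23Syl.CheckBase
import Cfsg.Agent.Lib.CosetEnum.Fi23Syl.CheckGroup
import Cfsg.Agent.Lib.CosetEnum.Fi23Syl.CheckSpan
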