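/-
The elementary abelian group spanned by a base of mutually commuting transpositions of Fi23.
-/
import Cfsg.Agent.Lib.CosetEnum.Fi23Aut.Main
import Cfsg.Agent.Lib.CosetEnum.Fi23Syl.Check
import Mathlib.Data.Nat.Bitwise

set_option autoImplicit false
set_option maxRecDepth 1000000

namespace CfsgLib.CosetEnum.Fi23Syl

open Cfsg CfsgLib.CosetEnum

/-- The transposition of a word. -/
noncomputable def tr (v : List ℕ) : presFi23.Grp :=
  (v.map presFi23.σ).prod * Fi23Aut.tz * ((v.map presFi23.σ).prod)⁻¹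

/-- The product of the transpositions of a list of words. -/
noncomputable def trs (l : List (List ℕ)) : presFi23.Grp := (l.map tr).prod

/-- All letters are generators. -/
def Good (l : List (List ℕ)) : Prop := ∀ v ∈ l, ∀ x ∈ v, x < 10

theorem act_spec : ∀ (l : List (List ℕ)), Good l → ∀ d : Fin Fi31671.cert.T.n,
    (Fi31671.cert.hom Fi31671.hlt (trs l) d : ℕ) = act l d := by
  intro l
  induction l with
  | nil => intro _ d; simp [trs, act]
  | cons v l ih =>
    intro hl d
    have e : trs (v :: l) = tr v * trs l := by simp [trs]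
    rw [e, map_mul, Equiv.Perm.mul_apply]
    have h := Fi31671.cert.realises_conj Fi31671.hlt Fi23Aut.hid Fi23Aut.real_t v (fun x hx => hl v (by simp) x hx)
      (Fi31671.cert.hom Fi31671.hlt (trs l) d)
    refine h.trans ?_
    rw [ih (fun w hw => hl w (List.mem_cons_of_mem _ hw)) d]
    show _ = force (act l d) _
    rw [force_eq]
    rfl

theorem eq_of_sameAt {l r : List (List ℕ)} (hl : Good l) (hr : Good r) (h : sameAt l r = true) : trs l = trs r := by
  have h1 : (trs r)⁻¹ * trs l = 1 := by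
    refine Subgroup.mem_bot.mp (Fi23Aut.preStab_bot ▸ (show _ ∈ Fi31671.cert.preStab Fi31671.hlt Fi23Aut.conf from ?_))
    intro d hd
    have hd' : (d : ℕ) ∈ Fi23Aut.genPts := (show ∀ q ∈ Fi23Aut.conf.map Prod.snd, q ∈ Fi23Aut.genPts by decide) _ hd
    have e := Nat.eq_of_beq_eq_true (List.all_eq_true.mp h _ hd')
    have e4 : Fi31671.cert.hom Fi31671.hlt (trs l) d = Fi31671.cert.hom Fi31671.hlt (trs r) d :=
      Fin.ext (by rw [act_spec l hl, act_spec r hr, e])
    rw [map_mul, Equiv.Perm.mul_apply, e4, map_inv, Equiv.Perm.inv_def, Equiv.symm_apply_apply]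
  exact (inv_mul_eq_one.mp h1).symm

theorem trs_append (l r : List (List ℕ)) : trs (l ++ r) = trs l * trs r := by simp [trs]

theorem tr_sq (v : List ℕ) : tr v * tr v = 1 := by
  show _ * Fi23Aut.tz * _ * (_ * Fi23Aut.tz * _) = (1 : presFi23.Grp)
  calc (v.map presFi23.σ).prod * Fi23Aut.tz * ((v.map presFi23.σ).prod)⁻¹ *
      ((v.map presFi23.σ).prod * Fi23Aut.tz * ((v.map presFi23.σ).prod)⁻¹)
      = (v.map presFi23.σ).prod * (Fi23Aut.tz * Fi23Aut.tz) * ((v.map presFi23.σ).prod)⁻¹ := by group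
    _ = 1 := by rw [Fi23Aut.t_sq, mul_one, mul_inv_cancel]

theorem trs_reverse : ∀ l : List (List ℕ), trs l.reverse = (trs l)⁻¹ := by
  intro l
  induction l with
  | nil => simp [trs]
  | cons v l ih =>
    rw [List.reverse_cons, trs_append, ih, show trs (v :: l) = tr v * trs l by simp [trs], mul_inv_rev,
      inv_eq_of_mul_eq_one_right (tr_sq v)]
    simp [trs]

/-! ### The base -/

/-- The word of a member of the base. -/
noncomputable def bw (j : ℕ) : List ℕ := bwords.getD j []

theorem base_spec {j : ℕ} (hj : j < 23) : bpts.getD j 0 < 31671 ∧ (∀ x ∈ bw j, x < 10) ∧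
    runT Fi31671.table 10 (bw j).reverse 0 = bpts.getD j 0 ∧
    (∀ v ∈ bwords, conjMap Fi31671.table 10 Fi23Class.zf v (bpts.getD j 0) = bpts.getD j 0) ∧
    vecs.getD j 0 < 2048 ∧ sameAt [bw j] (ebitsN 11 (vecs.getD j 0)) = true := by
  have h := allN_spec base_ok j hj
  simp only [force_eq, Bool.and_eq_true, blt_iff, List.all_eq_true] at h
  obtain ⟨⟨⟨⟨⟨h1, h2⟩, h3⟩, h4⟩, h5⟩, h6⟩ := h
  exact ⟨h1, h2, Nat.eq_of_beq_eq_true h3, fun v hv => Nat.eq_of_beq_eq_true (h4 v hv), h5, h6⟩

theorem bw_mem {j : ℕ} (hj : j < 23) : bw j ∈ bwords := by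
  rw [bw, List.getD_eq_getElem _ _ (base_len.1.symm ▸ hj)]
  exact List.getElem_mem _

theorem bw_good {j : ℕ} (hj : j < 23) : Good [bw j] := by
  intro v hv
  rw [List.mem_singleton] at hv
  rw [hv]
  exact (base_spec hj).2.1

/-- The member of the base. -/
noncomputable def bEl (j : ℕ) : presFi23.Grp := tr (bw j)

/-- The point of a member of the base. -/
noncomputable def bPt (j : ℕ) (hj : j < 23) : Fin Fi31671.cert.T.n := ⟨bpts.getD j 0, (base_spec hj).1⟩

theorem bEl_pt {j : ℕ} (hj : j < 23) : Fi31671.cert.IsPt Fi31671.hlt Fi23Aut.tz (bEl j) (bPt j hj) :=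
  Fi31671.cert.isPt_word Fi31671.hlt Fi23Aut.hid _ (base_spec hj).2.1 _ (base_spec hj).2.2.1

theorem bEl_fix {i j : ℕ} (hi : i < 23) (hj : j < 23) :
    Fi31671.cert.hom Fi31671.hlt (bEl i) (bPt j hj) = bPt j hj :=
  Fin.ext ((Fi31671.cert.realises_conj Fi31671.hlt Fi23Aut.hid Fi23Aut.real_t _ (base_spec hi).2.1 _).trans
    ((base_spec hj).2.2.2.1 _ (bw_mem hi)))

theorem bEl_comm {i j : ℕ} (hi : i < 23) (hj : j < 23) : Commute (bEl i) (bEl j) :=
  (Fi31671.cert.isPt_fix Fi31671.hlt Fi23Aut.stabIsCent (bEl_pt hj) _).mp (bEl_fix hi hj)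

/-! ### The masks -/

theorem bitB_eq (m i : ℕ) : bitB m i = m.testBit i := by
  have h : fld m i 1 = m / 2 ^ i % 2 := by
    show Nat.shiftRight m i % 2 ^ 1 = _
    rw [pow_one]
    show (m >>> i) % 2 = _
    rw [Nat.shiftRight_eq_div_pow]
  rw [bitB, h, Nat.testBit_eq_decide_div_mod_eq]
  rcases Nat.mod_two_eq_zero_or_one (m / 2 ^ i) with h' | h' <;> rw [h'] <;> rfl

theorem bitB_xor (a b i : ℕ) : bitB (Nat.xor a b) i = (bitB a i ^^ bitB b i) := by
  simp only [bitB_eq]
  exact Nat.testBit_xor a b i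

/-- The basis member to a bit. -/
noncomputable def sel (i : ℕ) (b : Bool) : presFi23.Grp := if b then bEl (bidx.getD i 0) else 1

theorem sel_mul (i : ℕ) (a b : Bool) : sel i a * sel i b = sel i (a ^^ b) := by
  cases a <;> cases b <;> simp [sel]
  exact tr_sq _

/-- The product of the basis members named by a mask, among the first `n`. -/
noncomputable def eP : ℕ → ℕ → presFi23.Grp
  | 0, _ => 1
  | n + 1, m => eP n m * sel n (bitB m n)

theorem trs_ebits (m : ℕ) : ∀ n ≤ 11, Good (ebitsN n m) ∧ trs (ebitsN n m) = eP n m := by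
  intro n
  induction n with
  | zero => intro _; exact ⟨by simp [Good, ebitsN], by simp [trs, ebitsN, eP]⟩
  | succ n ih =>
    intro hn
    obtain ⟨g, e⟩ := ih (by omega)
    have hb := base_len.2.2.2 n (by omega)
    constructor
    · intro v hv
      simp only [ebitsN, List.mem_append] at hv
      rcases hv with hv | hv
      · exact g v hv
      · split at hv
        · exact bw_good hb v hv
        · simp at hv
    · show trs (ebitsN n m ++ _) = eP n m * _
      rw [trs_append, e]
      cases hbit : bitB m n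
      · simp [sel, trs]
      · simp [sel, trs, bEl, bw]

theorem eP_comm {n j : ℕ} (hn : n ≤ 11) (hj : j < 23) (m : ℕ) : Commute (eP n m) (bEl j) := by
  induction n with
  | zero => exact Commute.one_left _
  | succ n ih =>
    refine (ih (by omega)).mul_left ?_
    unfold sel
    split
    · exact bEl_comm (base_len.2.2.2 n (by omega)) hj
    · exact Commute.one_left _

theorem eP_mul (a b : ℕ) : ∀ n ≤ 11, eP n a * eP n b = eP n (Nat.xor a b) := by
  intro n
  induction n with
  | zero => intro _; simp [eP]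
  | succ n ih =>
    intro hn
    have hc : Commute (sel n (bitB a n)) (eP n b) := by
      unfold sel
      split
      · exact (eP_comm (by omega) (base_len.2.2.2 n (by omega)) b).symm
      · exact Commute.one_left _
    show eP n a * sel n _ * (eP n b * sel n _) = eP n _ * sel n _
    calc eP n a * sel n (bitB a n) * (eP n b * sel n (bitB b n))
        = eP n a * (sel n (bitB a n) * eP n b) * sel n (bitB b n) := by group
      _ = eP n a * (eP n b * sel n (bitB a n)) * sel n (bitB b n) := by rw [hc.eq]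
      _ = (eP n a * eP n b) * (sel n (bitB a n) * sel n (bitB b n)) := by group
      _ = _ := by rw [ih (by omega), sel_mul, bitB_xor]

theorem eP_zero : ∀ n, eP n 0 = 1 := by
  intro n
  induction n with
  | zero => rfl
  | succ n ih =>
    show eP n 0 * sel n _ = 1
    rw [ih, bitB_eq, Nat.zero_testBit]
    simp [sel]

/-- The element of a mask. -/
noncomputable def eEl (m : ℕ) : presFi23.Grp := eP 11 m

theorem eEl_mul (a b : ℕ) : eEl a * eEl b = eEl (Nat.xor a b) := eP_mul a b 11 le_rfl

theorem eEl_zero : eEl 0 = 1 := eP_zero 11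

theorem eEl_sq (a : ℕ) : eEl a * eEl a = 1 := by
  rw [eEl_mul, show Nat.xor a a = 0 from Nat.xor_self a, eEl_zero]

theorem eEl_comm (a b : ℕ) : eEl a * eEl b = eEl b * eEl a := by
  rw [eEl_mul, eEl_mul, show Nat.xor a b = Nat.xor b a from Nat.xor_comm a b]

theorem xor_lt {a b : ℕ} (ha : a < 2048) (hb : b < 2048) : Nat.xor a b < 2048 :=
  Nat.xor_lt_two_pow (n := 11) ha hb

theorem eEl_ne_one {m : ℕ} (hm : m < 2048) (h0 : m ≠ 0) : eEl m ≠ 1 := by
  intro e
  have h := allN_spec inj_ok m hm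
  rw [Bool.or_eq_true] at h
  rcases h with h | h
  · exact h0 (Nat.eq_of_beq_eq_true h)
  · obtain ⟨g, e'⟩ := trs_ebits m 11 le_rfl
    have : sameAt (ebitsN 11 m) [] = true := by
      refine List.all_eq_true.mpr fun d hd => ?_
      have hd' : d < Fi31671.cert.T.n := (show ∀ d ∈ Fi23Aut.genPts, d < 31671 by decide) d hd
      have h2 := act_spec _ g ⟨d, hd'⟩
      rw [e', show eP 11 m = 1 from e, map_one, Equiv.Perm.one_apply] at h2
      rw [← h2]
      exact Nat.beq_refl _
    rw [this] at h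
    exact absurd h (by decide)

theorem eEl_inj {a b : ℕ} (ha : a < 2048) (hb : b < 2048) (h : eEl a = eEl b) : a = b := by
  by_contra hne
  refine eEl_ne_one (xor_lt ha hb) (fun e => hne ((Nat.xor_right_injective (x := a) ((Nat.xor_self a).trans e.symm)))) ?_
  rw [← eEl_mul, h, eEl_sq]

theorem bEl_eq {j : ℕ} (hj : j < 23) : bEl j = eEl (vecs.getD j 0) := by
  obtain ⟨g, e⟩ := trs_ebits (vecs.getD j 0) 11 le_rfl
  have h := eq_of_sameAt (bw_good hj) g (base_spec hj).2.2.2.2.2
  rw [e] at h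
  simpa [trs, bEl, eEl] using h

/-- The element acts on the base as the permutation with the given number. -/
def Acts (g : presFi23.Grp) (a : ℕ) : Prop :=
  a < 128 ∧ ∀ j (hj : j < 23), (Fi31671.cert.hom Fi31671.hlt g (bPt j hj) : ℕ) = bpts.getD (pm a j) 0

theorem pm_lt {a : ℕ} (ha : a < 128) {j : ℕ} (hj : j < 23) : pm a j < 23 := by
  have h := allN_spec group_ok a ha
  simp only [force_eq, Bool.and_eq_true] at h
  exact blt_iff.mp (allN_spec h.1.1.1.1.1 j hj)

theorem cols_spec {a : ℕ} (ha : a < 128) {i : ℕ} (hi : i < 11) :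
    fld (colsT.get a) (Nat.mul 11 i) 11 = vecs.getD (pm a (bidx.getD i 0)) 0 := by
  have h := allN_spec group_ok a ha
  simp only [force_eq, Bool.and_eq_true] at h
  exact Nat.eq_of_beq_eq_true (allN_spec h.1.2 i hi)

theorem conj_bEl {g : presFi23.Grp} {a : ℕ} (h : Acts g a) {j : ℕ} (hj : j < 23) :
    g * bEl j * g⁻¹ = bEl (pm a j) := by
  have h' := Fi31671.cert.isPt_conj Fi31671.hlt (bEl_pt hj) g
  rw [show Fi31671.cert.hom Fi31671.hlt g (bPt j hj) = bPt (pm a j) (pm_lt h.1 hj) from Fin.ext (h.2 j hj)] at h'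
  exact Fi31671.cert.isPt_unique Fi31671.hlt Fi23Aut.stabIsCent h' (bEl_pt (pm_lt h.1 hj))

theorem imgN_lt (c m : ℕ) : ∀ n, imgN c n m < 2048 := by
  intro n
  induction n with
  | zero => exact Nat.two_pow_pos 11
  | succ n ih =>
    refine xor_lt ih ?_
    cases bitB m n
    · exact Nat.two_pow_pos 11
    · exact Nat.mod_lt _ (Nat.two_pow_pos 11)

theorem conj_eEl {g : presFi23.Grp} {a : ℕ} (h : Acts g a) (m : ℕ) :
    g * eEl m * g⁻¹ = eEl (imgN (colsT.get a) 11 m) := by
  suffices key : ∀ n ≤ 11, g * eP n m * g⁻¹ = eEl (imgN (colsT.get a) n m) from key 11 le_rfl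
  intro n
  induction n with
  | zero => intro _; simp [eP, imgN, eEl_zero]
  | succ n ih =>
    intro hn
    have hb := base_len.2.2.2 n (by omega)
    show g * (eP n m * sel n _) * g⁻¹ = _
    rw [show g * (eP n m * sel n (bitB m n)) * g⁻¹ = (g * eP n m * g⁻¹) * (g * sel n (bitB m n) * g⁻¹) by group,
      ih (by omega)]
    have e2 : g * sel n (bitB m n) * g⁻¹ =
        eEl (Bool.rec 0 (fld (colsT.get a) (Nat.mul 11 n) 11) (bitB m n)) := by
      cases bitB m n
      · simp [sel, eEl_zero]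
      · show g * bEl _ * g⁻¹ = eEl (fld _ _ _)
        rw [conj_bEl h hb, cols_spec h.1 (by omega), bEl_eq (pm_lt h.1 hb)]
    rw [e2, eEl_mul]
    rfl

end CfsgLib.CosetEnum.Fi23Syl
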