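/-
A Sylow 2-subgroup of Fi23 has exactly one elementary abelian subgroup of order at least 2^11.
-/
import Cfsg.Agent.Lib.CosetEnum.Fi23Syl.Base
import Cfsg.Prelude.Def_Transfer
import Mathlib.GroupTheory.Sylow

set_option autoImplicit false
set_option maxRecDepth 1000000

namespace CfsgLib.CosetEnum.Fi23Syl

open Cfsg CfsgLib.CosetEnum

theorem mul7_spec {a b : ℕ} (ha : a < 128) (hb : b < 128) :
    mul7 a b < 128 ∧ ∀ j < 23, pm (mul7 a b) j = pm a (pm b j) := by
  have h := allN_spec mul_ok a ha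
  rw [force_eq] at h
  have h' := allN_spec h b hb
  simp only [force_eq, Bool.and_eq_true, blt_iff] at h'
  exact ⟨h'.1, fun j hj => Nat.eq_of_beq_eq_true (allN_spec h'.2 j hj)⟩

theorem group_spec {a : ℕ} (ha : a < 128) : mul7 a 0 = a ∧
    (a ≠ 0 → ∃ i < 7, 2 ^ i ≤ a ∧ mul7 (2 ^ i) (a - 2 ^ i) = a) ∧ (a ≠ 0 → mul7 a a = 0 → a ∈ invs) ∧
    (∀ b < 128, (∀ j < 23, pm a j = pm b j) → a = b) := by
  have h := allN_spec group_ok a ha
  simp only [force_eq, Bool.and_eq_true] at h
  obtain ⟨⟨⟨⟨⟨-, h2⟩, h3⟩, h4⟩, -⟩, h6⟩ := h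
  refine ⟨Nat.eq_of_beq_eq_true h2, fun h0 => ?_, fun h0 hm => ?_, fun b hb he => ?_⟩
  · rw [Bool.or_eq_true, List.any_eq_true] at h3
    rcases h3 with h3 | ⟨i, hi, h3⟩
    · exact absurd (Nat.eq_of_beq_eq_true h3) h0
    · rw [Bool.and_eq_true] at h3
      exact ⟨i, List.mem_range.mp hi, Nat.le_of_ble_eq_true h3.1, Nat.eq_of_beq_eq_true h3.2⟩
  · simp only [Bool.or_eq_true, SpanBound.memB_iff] at h4
    rcases h4 with (h4 | h4) | h4
    · exact absurd (Nat.eq_of_beq_eq_true h4) h0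
    · rw [hm] at h4; exact absurd h4 (by decide)
    · exact h4
  · have h' := allN_spec h6 b hb
    rw [Bool.or_eq_true] at h'
    rcases h' with h' | h'
    · exact Nat.eq_of_beq_eq_true h'
    · exfalso
      have : allN 23 (fun j => Nat.beq (pm a j) (pm b j)) = true := by
        have key : ∀ n ≤ 23, allN n (fun j => Nat.beq (pm a j) (pm b j)) = true := by
          intro n
          induction n with
          | zero => intro _; rfl
          | succ n ih =>
            intro hn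
            show (Nat.beq (pm a n) (pm b n) && allN n _) = true
            rw [ih (by omega), he n (by omega), Bool.and_true]
            exact Nat.beq_refl _
        exact key 23 le_rfl
      rw [this] at h'
      exact absurd h' (by decide)

theorem acts_one : Acts 1 0 := ⟨by norm_num, fun j hj => by
  rw [map_one, Equiv.Perm.one_apply, Nat.eq_of_beq_eq_true (allN_spec zero_ok j hj)]; rfl⟩

theorem Acts.mul {g h : presFi23.Grp} {a b : ℕ} (hg : Acts g a) (hh : Acts h b) : Acts (g * h) (mul7 a b) := by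
  refine ⟨(mul7_spec hg.1 hh.1).1, fun j hj => ?_⟩
  rw [map_mul, Equiv.Perm.mul_apply,
    show Fi31671.cert.hom Fi31671.hlt h (bPt j hj) = bPt (pm b j) (pm_lt hh.1 hj) from Fin.ext (hh.2 j hj),
    hg.2 _ (pm_lt hh.1 hj), (mul7_spec hg.1 hh.1).2 j hj]

theorem Acts.unique {g : presFi23.Grp} {a b : ℕ} (ha : Acts g a) (hb : Acts g b) : a = b := by
  refine (group_spec ha.1).2.2.2 b hb.1 fun j hj => ?_
  have e := (ha.2 j hj).symm.trans (hb.2 j hj)
  have l1 : pm a j < bpts.length := base_len.2.1.symm ▸ pm_lt ha.1 hj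
  have l2 : pm b j < bpts.length := base_len.2.1.symm ▸ pm_lt hb.1 hj
  rw [List.getD_eq_getElem _ _ l1, List.getD_eq_getElem _ _ l2] at e
  exact (List.Nodup.getElem_inj_iff base_len.2.2.1).mp e

theorem acts_eEl (m : ℕ) : Acts (eEl m) 0 := by
  refine ⟨by norm_num, fun j hj => ?_⟩
  have hc : Commute (eEl m) (bEl j) := eP_comm le_rfl hj m
  rw [(Fi31671.cert.isPt_fix Fi31671.hlt Fi23Aut.stabIsCent (bEl_pt hj) _).mpr hc,
    Nat.eq_of_beq_eq_true (allN_spec zero_ok j hj)]
  rfl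

/-- The lift of a generator of the group of order 128. -/
noncomputable def G (i : ℕ) : presFi23.Grp := trs (gw i)

theorem gw_good {i : ℕ} (hi : i < 7) : Good (gw i) := by
  have h := allN_spec lifts_ok i hi
  simp only [Bool.and_eq_true, List.all_eq_true, blt_iff] at h
  exact h.1

theorem acts_G {i : ℕ} (hi : i < 7) : Acts (G i) (2 ^ i) := by
  refine ⟨(show ∀ i < 7, 2 ^ i < 128 by decide) i hi, fun j hj => ?_⟩
  have h := allN_spec lifts_ok i hi
  simp only [Bool.and_eq_true] at h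
  rw [G, act_spec _ (gw_good hi)]
  exact Nat.eq_of_beq_eq_true (allN_spec h.2 j hj)

/-- The group spanned by the base. -/
noncomputable def eSub : Subgroup presFi23.Grp where
  carrier := {g | ∃ m < 2048, eEl m = g}
  one_mem' := ⟨0, by norm_num, eEl_zero⟩
  mul_mem' := by
    rintro _ _ ⟨a, ha, rfl⟩ ⟨b, hb, rfl⟩
    exact ⟨Nat.xor a b, xor_lt ha hb, (eEl_mul a b).symm⟩
  inv_mem' := by
    rintro _ ⟨a, ha, rfl⟩
    exact ⟨a, ha, (inv_eq_of_mul_eq_one_right (eEl_sq a)).symm⟩

theorem card_eSub : Nat.card eSub = 2048 := by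
  let f : Fin 2048 → eSub := fun m => ⟨eEl m, m, m.2, rfl⟩
  have hf : Function.Bijective f := by
    refine ⟨fun a b h => Fin.ext (eEl_inj a.2 b.2 (congrArg Subtype.val h)), ?_⟩
    rintro ⟨_, m, hm, rfl⟩
    exact ⟨⟨m, hm⟩, rfl⟩
  rw [← Nat.card_congr (Equiv.ofBijective f hf), Nat.card_fin]

/-- The groups generated by the base and the lifts from `i` on. -/
noncomputable def tower (i : ℕ) : Subgroup presFi23.Grp :=
  Subgroup.closure ((eSub : Set presFi23.Grp) ∪ {g | ∃ k, i ≤ k ∧ k < 7 ∧ G k = g})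

theorem eSub_le_tower (i : ℕ) : eSub ≤ tower i := fun _ hg => Subgroup.subset_closure (Or.inl hg)

theorem G_mem_tower {i k : ℕ} (h : i ≤ k) (hk : k < 7) : G k ∈ tower i :=
  Subgroup.subset_closure (Or.inr ⟨k, h, hk, rfl⟩)

theorem tower_rel {i j : ℕ} (hij : i ≤ j) (hj : j < 7) :
    (if i = j then G i * G i else G i * G j * (G i)⁻¹) ∈ tower (i + 1) := by
  have h := allN_spec (allN_spec rels_ok i (by omega)) j hj
  simp only [Bool.or_eq_true, blt_iff] at h
  have h := h.resolve_left (by omega)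
  simp only [okRel, Bool.and_eq_true, blt_iff, List.all_eq_true] at h
  set e := (relData.getD i []).getD (j - i) (2048, [])
  obtain ⟨⟨he1, he2⟩, hsame⟩ := h
  have hks : Good (e.2.map gw).flatten ∧ trs (e.2.map gw).flatten ∈ tower (i + 1) := by
    generalize e.2 = ks at he2
    induction ks with
    | nil => exact ⟨by simp [Good], by simp [trs]⟩
    | cons k ks ih =>
      obtain ⟨g1, g2⟩ := ih fun x hx => he2 x (List.mem_cons_of_mem _ hx)
      obtain ⟨hk1, hk2⟩ := he2 k (by simp)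
      rw [List.map_cons, List.flatten_cons, trs_append]
      refine ⟨fun v hv => (List.mem_append.mp hv).elim (gw_good hk2 v) (g1 v), ?_⟩
      exact Subgroup.mul_mem _ (G_mem_tower (by omega) hk2) g2
  obtain ⟨ge, ee⟩ := trs_ebits e.1 11 le_rfl
  have hgr : Good (ebitsN 11 e.1 ++ (e.2.map gw).flatten) := fun v hv =>
    (List.mem_append.mp hv).elim (ge v) (hks.1 v)
  have hr : trs (ebitsN 11 e.1 ++ (e.2.map gw).flatten) ∈ tower (i + 1) := by
    rw [trs_append, ee]
    exact Subgroup.mul_mem _ (eSub_le_tower _ ⟨e.1, he1, rfl⟩) hks.2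
  have gi := gw_good (show i < 7 by omega)
  by_cases hq : i = j
  · rw [if_pos hq]
    subst hq
    rw [if_pos (Nat.beq_refl i)] at hsame
    have := eq_of_sameAt (fun v hv => (List.mem_append.mp hv).elim (gi v) (gi v)) hgr hsame
    rw [trs_append] at this
    exact this ▸ hr
  · rw [if_neg hq]
    rw [if_neg (fun hb => hq (Nat.eq_of_beq_eq_true hb))] at hsame
    have := eq_of_sameAt (fun v hv => by
      rcases List.mem_append.mp hv with hv | hv
      · exact (List.mem_append.mp hv).elim (gi v) (gw_good hj v)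
      · exact gi v (List.mem_reverse.mp hv)) hgr hsame
    rw [trs_append, trs_append, trs_reverse] at this
    exact this ▸ hr

theorem card_tower_step [Finite presFi23.Grp] {i : ℕ} (hi : i < 7) :
    Nat.card (tower i) ≤ 2 * Nat.card (tower (i + 1)) := by
  set H := tower (i + 1) with hH
  set g := G i with hg
  have hle : H.map (MulAut.conj g).toMonoidHom ≤ H := by
    rw [hH, tower, MonoidHom.map_closure, Subgroup.closure_le]
    rintro _ ⟨y, hy, rfl⟩
    show g * y * g⁻¹ ∈ H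
    rcases hy with ⟨m, -, rfl⟩ | ⟨k, hk1, hk2, rfl⟩
    · rw [conj_eEl (acts_G hi)]
      exact eSub_le_tower _ ⟨_, imgN_lt _ _ _, rfl⟩
    · have := tower_rel (i := i) (j := k) (by omega) hk2
      rwa [if_neg (by omega)] at this
  have heq : H.map (MulAut.conj g).toMonoidHom = H :=
    Subgroup.eq_of_le_of_card_ge hle
      (le_of_eq (Subgroup.card_map_of_injective (MulAut.conj g).injective).symm)
  have hnorm : ∀ h, h ∈ H ↔ g * h * g⁻¹ ∈ H := by
    intro h
    constructor
    · exact fun hh => hle ⟨h, hh, rfl⟩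
    · intro hh
      rw [← heq] at hh
      obtain ⟨y, hy, e⟩ := hh
      have : y = h := (MulAut.conj g).injective e
      exact this ▸ hy
  have hsq : g * g ∈ H := by
    have := tower_rel (i := i) (j := i) le_rfl hi
    rwa [if_pos rfl] at this
  let K : Subgroup presFi23.Grp :=
    { carrier := {x | x ∈ H ∨ ∃ h ∈ H, x = g * h}
      one_mem' := Or.inl H.one_mem
      mul_mem' := by
        rintro x y (hx | ⟨h, hh, rfl⟩) (hy | ⟨h', hh', rfl⟩)
        · exact Or.inl (H.mul_mem hx hy)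
        · refine Or.inr ⟨g⁻¹ * x * g * h', H.mul_mem ((hnorm _).mpr ?_) hh', by group⟩
          rwa [show g * (g⁻¹ * x * g) * g⁻¹ = x by group]
        · exact Or.inr ⟨h * y, H.mul_mem hh hy, by group⟩
        · refine Or.inl ?_
          rw [show g * h * (g * h') = (g * h * g⁻¹) * (g * g) * h' by group]
          exact H.mul_mem (H.mul_mem ((hnorm h).mp hh) hsq) hh'
      inv_mem' := by
        rintro x (hx | ⟨h, hh, rfl⟩)
        · exact Or.inl (H.inv_mem hx)
        · refine Or.inr ⟨(g * g)⁻¹ * (g * h⁻¹ * g⁻¹), H.mul_mem (H.inv_mem hsq) ((hnorm _).mp (H.inv_mem hh)), ?_⟩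
          group }
  have hK : tower i ≤ K := by
    rw [tower, Subgroup.closure_le]
    rintro x (hx | ⟨k, hk1, hk2, rfl⟩)
    · exact Or.inl (eSub_le_tower _ hx)
    · rcases Nat.eq_or_lt_of_le hk1 with rfl | hlt
      · exact Or.inr ⟨1, H.one_mem, (mul_one _).symm⟩
      · exact Or.inl (G_mem_tower (by omega) hk2)
  refine le_trans (Subgroup.card_le_of_le hK) ?_
  have hsub : (K : Set presFi23.Grp) ⊆ (H : Set presFi23.Grp) ∪ (g * ·) '' (H : Set presFi23.Grp) := by
    rintro x (hx | ⟨h, hh, rfl⟩)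
    · exact Or.inl hx
    · exact Or.inr ⟨h, hh, rfl⟩
  calc Nat.card K = (K : Set presFi23.Grp).ncard := Nat.card_coe_set_eq _
    _ ≤ _ := Set.ncard_le_ncard hsub (Set.toFinite _)
    _ ≤ _ := Set.ncard_union_le _ _
    _ ≤ (H : Set presFi23.Grp).ncard + (H : Set presFi23.Grp).ncard :=
      Nat.add_le_add le_rfl (Set.ncard_image_le (Set.toFinite _))
    _ = 2 * Nat.card H := by rw [← Nat.card_coe_set_eq, two_mul]; rfl

theorem tower_seven : tower 7 = eSub := by
  refine le_antisymm ?_ (eSub_le_tower 7)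
  rw [tower, Subgroup.closure_le]
  rintro x (hx | ⟨k, h1, h2, rfl⟩)
  · exact hx
  · omega

theorem acts_tower {g : presFi23.Grp} [Finite presFi23.Grp] (hg : g ∈ tower 0) : ∃ a, Acts g a := by
  have hmul : ∀ x y : presFi23.Grp, (∃ a, Acts x a) → (∃ a, Acts y a) → ∃ a, Acts (x * y) a :=
    fun x y ⟨_, ha⟩ ⟨_, hb⟩ => ⟨_, ha.mul hb⟩
  have hg' : g ∈ (tower 0).toSubmonoid := hg
  rw [tower, Subgroup.closure_toSubmonoid_of_finite] at hg'
  clear hg
  induction hg' using Submonoid.closure_induction with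
  | mem x hx =>
    rcases hx with ⟨m, -, rfl⟩ | ⟨k, -, hk, rfl⟩
    · exact ⟨0, acts_eEl m⟩
    · exact ⟨_, acts_G hk⟩
  | one => exact ⟨0, acts_one⟩
  | mul x y _ _ hx hy => exact hmul x y hx hy

theorem exists_acts (a : ℕ) (ha : a < 128) : ∃ g ∈ tower 0, Acts g a := by
  induction a using Nat.strong_induction_on with
  | _ a ih =>
    by_cases h0 : a = 0
    · exact ⟨1, Subgroup.one_mem _, h0 ▸ acts_one⟩
    obtain ⟨i, hi, hle, he⟩ := (group_spec ha).2.1 h0
    have hp : 0 < 2 ^ i := Nat.two_pow_pos i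
    obtain ⟨g, hg, hga⟩ := ih (a - 2 ^ i) (by omega) (by omega)
    exact ⟨G i * g, Subgroup.mul_mem _ (G_mem_tower (Nat.zero_le i) hi) hg, he ▸ (acts_G hi).mul hga⟩

theorem card_tower [Finite presFi23.Grp] :
    Nat.card (tower 0) = 262144 ∧ ∀ g ∈ tower 0, Acts g 0 → g ∈ eSub := by
  have hle : Nat.card (tower 0) ≤ 262144 := by
    have h0 := card_tower_step (i := 0) (by norm_num)
    have h1 := card_tower_step (i := 1) (by norm_num)
    have h2 := card_tower_step (i := 2) (by norm_num)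
    have h3 := card_tower_step (i := 3) (by norm_num)
    have h4 := card_tower_step (i := 4) (by norm_num)
    have h5 := card_tower_step (i := 5) (by norm_num)
    have h6 := card_tower_step (i := 6) (by norm_num)
    have h7 : Nat.card (tower 7) = 2048 := by rw [tower_seven, card_eSub]
    simp only [Nat.reduceAdd] at h0 h1 h2 h3 h4 h5 h6
    omega
  choose r hr hra using fun a : Fin 128 => exists_acts a a.2
  let f : eSub × Fin 128 → tower 0 := fun p => ⟨p.1 * r p.2, Subgroup.mul_mem _ (eSub_le_tower 0 p.1.2) (hr _)⟩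
  have hacts : ∀ (e : eSub) (a : Fin 128), Acts ((e : presFi23.Grp) * r a) (mul7 0 a) := by
    rintro ⟨_, m, -, rfl⟩ a
    exact (acts_eEl m).mul (hra a)
  have hz : ∀ a : Fin 128, mul7 0 a = a := fun a => by
    refine (group_spec (mul7_spec (by norm_num) a.2).1).2.2.2 _ a.2 fun j hj => ?_
    rw [(mul7_spec (by norm_num) a.2).2 j hj, Nat.eq_of_beq_eq_true (allN_spec zero_ok _ (pm_lt a.2 hj))]
  have finj : Function.Injective f := by
    rintro ⟨e, a⟩ ⟨e', a'⟩ h
    have h' : (e : presFi23.Grp) * r a = e' * r a' := congrArg Subtype.val h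
    have ea : a = a' := Fin.ext (by
      have := (hacts e a).unique (h' ▸ hacts e' a')
      rwa [hz, hz] at this)
    subst ea
    exact Prod.ext (Subtype.ext (mul_right_cancel h')) rfl
  have hcard : Nat.card (eSub × Fin 128) = 262144 := by rw [Nat.card_prod, card_eSub, Nat.card_fin]
  have hge : 262144 ≤ Nat.card (tower 0) := hcard ▸ Nat.card_le_card_of_injective f finj
  refine ⟨le_antisymm hle hge, fun g hg hga => ?_⟩
  have hbij := (Nat.bijective_iff_injective_and_card f).mpr ⟨finj, by rw [hcard]; omega⟩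
  obtain ⟨⟨e, a⟩, he⟩ := hbij.2 ⟨g, hg⟩
  have he' : (e : presFi23.Grp) * r a = g := congrArg Subtype.val he
  have ha : a = 0 := Fin.ext (by
    have := (he' ▸ hacts e a : Acts g (mul7 0 a)).unique hga
    rwa [hz] at this)
  obtain ⟨⟨e1, a1⟩, he1⟩ := hbij.2 ⟨1, Subgroup.one_mem _⟩
  have he1' : (e1 : presFi23.Grp) * r a1 = 1 := congrArg Subtype.val he1
  have ha1 : a1 = 0 := Fin.ext (by
    have := (he1' ▸ hacts e1 a1 : Acts 1 (mul7 0 a1)).unique acts_one
    rwa [hz] at this)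
  subst ha ha1
  rw [← he', eq_inv_of_mul_eq_one_right he1']
  exact eSub.mul_mem e.2 (eSub.inv_mem e1.2)

theorem eSub_elementary : IsElementaryAbelian 2 eSub := by
  refine ⟨⟨⟨?_⟩⟩, ?_⟩
  · rintro ⟨_, a, -, rfl⟩ ⟨_, b, -, rfl⟩
    exact Subtype.ext (eEl_comm a b)
  · rintro _ ⟨a, -, rfl⟩
    rw [pow_two, eEl_sq]

theorem bound [Finite presFi23.Grp] (A : Subgroup presFi23.Grp) (hA : A ≤ tower 0)
    (hEA : IsElementaryAbelian 2 A) : A ≤ eSub ∨ Nat.card A < 2048 := by
  classical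
  obtain ⟨hcA, hsA⟩ := hEA
  have hcomm : ∀ x ∈ A, ∀ y ∈ A, x * y = y * x := fun x hx y hy =>
    congrArg Subtype.val (hcA.is_comm.comm ⟨x, hx⟩ ⟨y, hy⟩)
  let S : Finset ℕ := (Finset.range 128).filter fun a => ∃ g ∈ A, Acts g a
  let H : Finset ℕ := (Finset.range 2048).filter fun m => eEl m ∈ A
  have hS : ∀ {a}, a ∈ S ↔ a < 128 ∧ ∃ g ∈ A, Acts g a := by simp [S]
  have hH : ∀ {m}, m ∈ H ↔ m < 2048 ∧ eEl m ∈ A := by simp [H]
  have hclosed : ∀ v ∈ S, ∀ u ∈ S, mul7 v u ∈ S ∧ mul7 v u = mul7 u v := by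
    intro v hv u hu
    obtain ⟨hv', g, hg, hga⟩ := hS.mp hv
    obtain ⟨hu', h, hh, hha⟩ := hS.mp hu
    exact ⟨hS.mpr ⟨(mul7_spec hv' hu').1, g * h, A.mul_mem hg hh, hga.mul hha⟩,
      (hga.mul hha).unique (hcomm g hg h hh ▸ hha.mul hga)⟩
  have hfix : ∀ v ∈ S, ∀ m ∈ H, fixd v m = true := by
    intro v hv m hm
    obtain ⟨-, g, hg, hga⟩ := hS.mp hv
    obtain ⟨hm', hmA⟩ := hH.mp hm
    have e : g * eEl m * g⁻¹ = eEl m := by rw [hcomm g hg _ hmA, mul_inv_cancel_right]
    rw [fixd, force_eq, eEl_inj (imgN_lt _ _ _) hm' ((conj_eEl hga m).symm.trans e)]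
    exact Nat.beq_refl _
  have hsquare : ∀ v ∈ S, mul7 v v = 0 := by
    intro v hv
    obtain ⟨-, g, hg, hga⟩ := hS.mp hv
    refine (hga.mul hga).unique ?_
    rw [← pow_two, hsA g hg]
    exact acts_one
  have h0 : 0 ∈ S := hS.mpr ⟨by norm_num, 1, A.one_mem, acts_one⟩
  have hcands : ∀ x ∈ S, x ∈ [0] ∨ x ∈ invs := by
    intro x hx
    by_cases hx0 : x = 0
    · exact Or.inl (by simp [hx0])
    · exact Or.inr ((group_spec (hS.mp hx).1).2.2.1 hx0 (hsquare x hx))
  rcases SpanBound.spanOK_sound S H hclosed hfix (fun v hv => (group_spec (hS.mp hv).1).1) 5 [0]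
    (List.range 2048) invs span_ok (by simpa using h0) (by simp) hcands
    (fun m hm => List.mem_range.mpr (hH.mp hm).1) with hall | hlt
  · left
    intro g hg
    obtain ⟨a, ha⟩ := acts_tower (hA hg)
    have : a = 0 := by simpa using hall a (hS.mpr ⟨ha.1, g, hg, ha⟩)
    exact card_tower.2 g (hA hg) (this ▸ ha)
  · right
    refine lt_of_le_of_lt ?_ hlt
    choose s hs hsa using fun a : S => (hS.mp a.2).2
    have hcode : ∀ g : A, ∃ p : H × S, (g : presFi23.Grp) = eEl p.1 * s p.2 := by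
      rintro ⟨g, hg⟩
      obtain ⟨a, ha⟩ := acts_tower (hA hg)
      have haS : a ∈ S := hS.mpr ⟨ha.1, g, hg, ha⟩
      set y := s ⟨a, haS⟩
      have hy : y ∈ A := hs _
      have h0' : Acts (g * y) 0 := hsquare a haS ▸ ha.mul (hsa ⟨a, haS⟩)
      obtain ⟨m, hm, e⟩ := card_tower.2 _ (Subgroup.mul_mem _ (hA hg) (hA hy)) h0'
      refine ⟨(⟨m, hH.mpr ⟨hm, e ▸ A.mul_mem hg hy⟩⟩, ⟨a, haS⟩), ?_⟩
      show g = eEl m * y
      rw [e, mul_assoc, ← pow_two, hsA y hy, mul_one]
    choose code hcode using hcode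
    have hinj : Function.Injective code := fun g h e => Subtype.ext (by rw [hcode g, hcode h, e])
    calc Nat.card A ≤ Nat.card (H × S) := Nat.card_le_card_of_injective code hinj
      _ = H.card * S.card := by rw [Nat.card_prod, Nat.card_eq_finsetCard, Nat.card_eq_finsetCard]

theorem eSub_normal {g : presFi23.Grp} [Finite presFi23.Grp] (hg : g ∈ tower 0) {e : presFi23.Grp}
    (he : e ∈ eSub) : g * e * g⁻¹ ∈ eSub := by
  obtain ⟨a, ha⟩ := acts_tower hg
  obtain ⟨m, -, rfl⟩ := he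
  exact ⟨_, imgN_lt _ _ _, (conj_eEl ha m).symm⟩

/-- In every Sylow 2-subgroup there is exactly one normal elementary abelian subgroup of order 2^11, and no
elementary abelian subgroup is larger. -/
theorem unique_normal (T : Sylow 2 presFi23.Grp) :
    (∀ A : Subgroup presFi23.Grp, A ≤ T → (A.subgroupOf T).Normal → IsElementaryAbelian 2 A →
        Nat.card A ≤ 2 ^ 11) ∧
    ∃! A : Subgroup presFi23.Grp, A ≤ T ∧ (A.subgroupOf T).Normal ∧ IsElementaryAbelian 2 A ∧
        Nat.card A = 2 ^ 11 := by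
  haveI : Finite presFi23.Grp := Cfsg.Agent.S1697.upper.1
  haveI : Fact (Nat.Prime 2) := ⟨Nat.prime_two⟩
  have hfact : (Nat.card presFi23.Grp).factorization 2 = 18 := by
    rw [Fi23Aut.card_grp, show (4089470473293004800 : ℕ) = 2 ^ 18 * 15600091832325 by norm_num,
      Nat.factorization_mul (by positivity) (by norm_num), Nat.Prime.factorization_pow Nat.prime_two,
      Finsupp.add_apply, Finsupp.single_eq_same, Nat.factorization_eq_zero_of_not_dvd (by norm_num)]
  let T₀ : Sylow 2 presFi23.Grp := Sylow.ofCard (tower 0) (by rw [hfact, card_tower.1]; norm_num)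
  obtain ⟨g, hgT⟩ := MulAction.exists_smul_eq presFi23.Grp T₀ T
  have hT : ∀ x : presFi23.Grp, x ∈ T ↔ g⁻¹ * x * g ∈ tower 0 := by
    intro x
    rw [← hgT]
    show x ∈ (↑(g • T₀) : Subgroup presFi23.Grp) ↔ _
    rw [Sylow.coe_subgroup_smul, Subgroup.mem_pointwise_smul_iff_inv_smul_mem]
    simp [T₀, mul_assoc]
  have tr_elem : ∀ (c : presFi23.Grp) (A : Subgroup presFi23.Grp), IsElementaryAbelian 2 A →
      IsElementaryAbelian 2 (A.map (MulAut.conj c).toMonoidHom) := by
    intro c A hA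
    refine ⟨⟨⟨?_⟩⟩, ?_⟩
    · rintro ⟨_, a, ha, rfl⟩ ⟨_, b, hb, rfl⟩
      apply Subtype.ext
      show (MulAut.conj c) a * (MulAut.conj c) b = (MulAut.conj c) b * (MulAut.conj c) a
      rw [← map_mul, ← map_mul, show a * b = b * a from congrArg Subtype.val (hA.1.is_comm.comm ⟨a, ha⟩ ⟨b, hb⟩)]
    · rintro _ ⟨a, ha, rfl⟩
      show (MulAut.conj c) a ^ 2 = 1
      rw [← map_pow, hA.2 a ha, map_one]
  have back : ∀ A : Subgroup presFi23.Grp, A ≤ T → IsElementaryAbelian 2 A →
      A ≤ eSub.map (MulAut.conj g).toMonoidHom ∨ Nat.card A < 2048 := by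
    intro A hAT hA
    have hle : A.map (MulAut.conj g⁻¹).toMonoidHom ≤ tower 0 := by
      rintro _ ⟨a, ha, rfl⟩
      simpa using (hT a).mp (hAT ha)
    rcases bound _ hle (tr_elem g⁻¹ A hA) with h | h
    · refine Or.inl fun a ha => ⟨g⁻¹ * a * g, h ⟨a, ha, by simp⟩, ?_⟩
      show g * (g⁻¹ * a * g) * g⁻¹ = a
      group
    · rw [Subgroup.card_map_of_injective (MulAut.conj g⁻¹).injective] at h
      exact Or.inr h
  set E := eSub.map (MulAut.conj g).toMonoidHom
  have hcardE : Nat.card E = 2048 := by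
    rw [Subgroup.card_map_of_injective (MulAut.conj g).injective, card_eSub]
  have h11 : (2 : ℕ) ^ 11 = 2048 := by norm_num
  refine ⟨fun A hAT _ hA => ?_, E, ⟨?_, ?_, tr_elem g _ eSub_elementary, hcardE.trans h11.symm⟩, ?_⟩
  · rcases back A hAT hA with h | h
    · exact (Subgroup.card_le_of_le h).trans (hcardE.trans h11.symm).le
    · omega
  · rintro _ ⟨e, he, rfl⟩
    refine (hT _).mpr (eSub_le_tower 0 ?_)
    simpa [mul_assoc] using he
  · refine ⟨?_⟩
    rintro ⟨x, hx⟩ hxE ⟨y, hy⟩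
    rw [Subgroup.mem_subgroupOf] at hxE ⊢
    obtain ⟨e, he, hex⟩ := hxE
    refine ⟨_, eSub_normal ((hT y).mp hy) he, ?_⟩
    show g * (g⁻¹ * y * g * e * (g⁻¹ * y * g)⁻¹) * g⁻¹ = y * x * y⁻¹
    rw [← show g * e * g⁻¹ = x from hex]
    group
  · rintro A ⟨hAT, -, hA, hcard⟩
    rcases back A hAT hA with h | h
    · exact Subgroup.eq_of_le_of_card_ge h (by rw [hcardE, hcard, h11])
    · omega

end CfsgLib.CosetEnum.Fi23Syl
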